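import Cfsg.Agent.H72.PGF.Ident
import Cfsg.Agent.H203.GI.Main

/-!
# Prime graph of `F₄(2^k)` : the interface for S3635 (helper72)

`L` of the family `.f4` over the field with `2 ^ k` elements, `k ≥ 1`; `n₁ = q⁴ + 1`, `n₂ = q⁴ - q² + 1`:
* `ip_L₁`, `ip_L₂` : `Ip L n₁`, `Ip L n₂`; `coprime_n`; `two_dvd_L`;
* `clq_L₁`, `clq_L₂` : `Clq L n₁`, `Clq L n₂`;
* `ident_F4` : `IdentC L n₁ n₂`.
-/

set_option autoImplicit false
set_option linter.unusedSectionVars false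

namespace Cfsg.Agent.H72.PGF

open Cfsg Cfsg.Lie Cfsg.Agent.H72.F4I Cfsg.Agent.H200.PG
open Cfsg.Agent.H415.PG3 (Ip Hyp Cl)
open Cfsg.Agent.H203.GI (Clq IdentC)
open Cfsg.Agent.H134.TD (TorAt tor_F4_8 torAt_of_exact)
open Cfsg.Agent.H129.CycT

universe u v

/-- the element orders divisible by `r` divide `N` -/
theorem dvd_of_tor {G : Type*} [Group G] [Finite G] {N r : ℕ} (hT : TorAt G N r) (hr : r.Prime) (hrN : r ∣ N) {x : G}
    (hx : r ∣ orderOf x) : orderOf x ∣ N := by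
  obtain ⟨T, hTc, rfl, hT⟩ := hT
  have hx0 : orderOf x ≠ 0 := (orderOf_pos x).ne'
  have ho : orderOf (x ^ (orderOf x / r)) = r := orderOf_pow_orderOf_div hx0 hx
  obtain ⟨g, -, hg⟩ := Cfsg.Agent.H129.CycT.centralizer_conj hTc hr hrN hT ho
  have h1 : g * x * g⁻¹ ∈ T := by
    rw [← hg, Subgroup.mem_centralizer_singleton_iff]
    exact (Commute.self_pow x _).eq
  have h2 : orderOf (g * x * g⁻¹) = orderOf x := by
    have := orderOf_injective (MulAut.conj g).toMonoidHom (MulAut.conj g).injective x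
    simpa using this
  rw [← h2, ← Subgroup.orderOf_mk _ h1]
  exact orderOf_dvd_natCard _

theorem ip_of_tor {G : Type*} [Group G] [Finite G] {N : ℕ} (h2 : ¬ 2 ∣ N) (h1 : 1 < N)
    (hT : ∀ r : ℕ, r.Prime → r ∣ N → TorAt G N r) : Ip G N where
  dvd r hr hrN := by
    obtain ⟨x, hx⟩ := (hT r hr hrN).order
    exact hrN.trans (hx ▸ orderOf_dvd_natCard x)
  iso r s hr hs hrN hsN := by
    rintro ⟨x, hx⟩
    have h3 := dvd_of_tor (hT r hr hrN) hr hrN (x := x) (by rw [hx]; exact Dvd.intro _ rfl)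
    rw [hx] at h3
    exact hsN ((Dvd.intro_left _ rfl).trans h3)
  not_two_dvd := h2
  one_lt := h1

theorem clq_of_elt {G : Type*} [Group G] [Finite G] {N : ℕ} (h : ∃ x : G, orderOf x = N) : Clq G N := by
  intro r s hr hs hne h1 h2
  obtain ⟨x, rfl⟩ := h
  have h3 : r * s ∣ orderOf x := ((Nat.coprime_primes hr hs).2 hne).mul_dvd_of_dvd_of_dvd h1 h2
  exact ⟨x ^ (orderOf x / (r * s)), orderOf_pow_orderOf_div (orderOf_pos x).ne' h3⟩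

variable {k : ℕ}

theorem two_le_pow (hk : 1 ≤ k) : 2 ≤ 2 ^ k := by
  calc 2 = 2 ^ 1 := rfl
    _ ≤ 2 ^ k := Nat.pow_le_pow_right (by norm_num) hk

theorem coprime_n (hk : 1 ≤ k) : Nat.Coprime ((2 ^ k) ^ 4 + 1) ((2 ^ k) ^ 4 - (2 ^ k) ^ 2 + 1) := by
  have h2 := two_le_pow hk
  exact Nat.Coprime.symm (Nat.coprime_of_dvd fun s hs h1 h2 => not_dvd_both (q := 2 ^ k) (by omega) hs h1 h2)

theorem not_two₁ (hk : 1 ≤ k) : ¬ 2 ∣ (2 ^ k) ^ 4 + 1 := by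
  have h1 : 2 ∣ (2 ^ k) ^ 4 := dvd_pow (dvd_pow_self 2 (by omega)) (by norm_num)
  omega

theorem not_two₂ (hk : 1 ≤ k) : ¬ 2 ∣ (2 ^ k) ^ 4 - (2 ^ k) ^ 2 + 1 := by
  have h2 := two_le_pow hk
  have h3 := mm_mod (q := 2 ^ k) (by omega)
  unfold mm at h3
  omega

theorem one_lt₁ (hk : 1 ≤ k) : 1 < (2 ^ k) ^ 4 + 1 := by
  have h2 := two_le_pow hk
  have : 1 ≤ (2 ^ k) ^ 4 := Nat.one_le_pow _ _ (by omega)
  omega

theorem one_lt₂ (hk : 1 ≤ k) : 1 < (2 ^ k) ^ 4 - (2 ^ k) ^ 2 + 1 := by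
  have h2 := two_le_pow hk
  have h3 := mm_ge h2
  unfold mm at h3
  omega

variable {L : Type v} [Group L]

theorem finite_L (hL : H426.LieFam.Fam.Is 2 k L .f4) : Finite L := by
  obtain ⟨F, _, _, _, hF, ⟨e⟩⟩ := hL
  exact Finite.of_equiv _ e.symm.toEquiv

theorem two_dvd_L (hk : 1 ≤ k) (hL : H426.LieFam.Fam.Is 2 k L .f4) : 2 ∣ Nat.card L := by
  obtain ⟨F, _, _, _, hF, ⟨e⟩⟩ := hL
  rw [Nat.card_congr e.toEquiv, S1062.result hF]
  exact ((((dvd_pow (dvd_pow_self 2 (by omega)) (by norm_num)).mul_right _).mul_right _).mul_right _).mul_right _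

theorem ip_L₁ (hk : 1 ≤ k) (hL : H426.LieFam.Fam.Is 2 k L .f4) : Ip L ((2 ^ k) ^ 4 + 1) := by
  obtain ⟨F, _, _, _, hF, ⟨e⟩⟩ := hL
  refine Ip.congr (ip_of_tor (not_two₁ hk) (one_lt₁ hk) fun r hr hrN => ?_) e.symm
  refine tor_F4_8 hF (by push_cast; ring) hr hrN ?_
  rintro rfl
  exact not_two₁ hk hrN

theorem ip_L₂ (hk : 1 ≤ k) (hL : H426.LieFam.Fam.Is 2 k L .f4) : Ip L ((2 ^ k) ^ 4 - (2 ^ k) ^ 2 + 1) := by
  obtain ⟨F, _, _, _, hF, ⟨e⟩⟩ := hL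
  refine Ip.congr (ip_of_tor (not_two₂ hk) (one_lt₂ hk) fun r hr hrN => ?_) e.symm
  exact torAt_of_exact (exact_F4_12 hF (n12 (two_le_pow hk))) hr

theorem clq_L₁ (hk : 1 ≤ k) (hL : H426.LieFam.Fam.Is 2 k L .f4) : Clq L ((2 ^ k) ^ 4 + 1) := by
  have hfin := finite_L hL
  obtain ⟨F, _, _, _, hF, ⟨e⟩⟩ := hL
  obtain ⟨x, hx⟩ := H134.TD.order_F4_8 hF (N := (2 ^ k) ^ 4 + 1) (by push_cast; ring)
  exact clq_of_elt ⟨e.symm x, by rw [MulEquiv.orderOf_eq, hx]⟩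

theorem clq_L₂ (hk : 1 ≤ k) (hL : H426.LieFam.Fam.Is 2 k L .f4) : Clq L ((2 ^ k) ^ 4 - (2 ^ k) ^ 2 + 1) := by
  have hfin := finite_L hL
  obtain ⟨F, _, _, _, hF, ⟨e⟩⟩ := hL
  obtain ⟨s, hs, hd⟩ := Nat.exists_prime_and_dvd (one_lt₂ hk).ne'
  obtain ⟨x, hx⟩ := (torAt_of_exact (exact_F4_12 hF (n12 (two_le_pow hk))) hs).order
  exact clq_of_elt ⟨e.symm x, by rw [MulEquiv.orderOf_eq, hx]⟩

/-- **The identification of `F₄(2^k)` by its prime graph.** -/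
theorem ident_F4 (hcl : Cl.{u}) (hk : 1 ≤ k) (hL : H426.LieFam.Fam.Is 2 k L .f4) :
    IdentC.{u, v} L ((2 ^ k) ^ 4 + 1) ((2 ^ k) ^ 4 - (2 ^ k) ^ 2 + 1) := by
  intro S _ _ hs hna hS hcq
  have hfin := finite_L hL
  exact ident_f4 hk hL hna (H203.GI.two_dvd hs hna) (hcl S) hS hcq

/-- the family hypothesis from the form in S3635 -/
theorem is_f4 {F : Type} [Field F] [Fintype F] (hF : Fintype.card F = 2 ^ k) (hk : 1 ≤ k)
    (hL : Nonempty (L ≃* ↥(chevF4.group F))) : H426.LieFam.Fam.Is 2 k L .f4 := by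
  obtain ⟨p, hp⟩ := CharP.exists F
  have hpp : p.Prime := CharP.char_is_prime F p
  obtain ⟨n, -, hn⟩ := FiniteField.card F p
  have h2 : p = 2 := by
    have h1 : p ∣ 2 ^ k := by
      rw [← hF, hn]
      exact dvd_pow_self p n.ne_zero
    exact (Nat.prime_dvd_prime_iff_eq hpp Nat.prime_two).1 (hpp.dvd_of_dvd_pow h1)
  subst h2
  exact ⟨F, inferInstance, inferInstance, hp, hF, hL⟩

end Cfsg.Agent.H72.PGF
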