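import Cfsg.Agent.H72.F4I.Num
import Cfsg.Agent.H200.PG.Tri
import Cfsg.Agent.H564.Near

/-!
# Prime graph of `F₄(2^k)`: the situation (helper72, statement S3635)

`PS q S`, `q = 2^k` : `q⁴ + 1` and `mm q = q⁴ - q² + 1` are isolated in the prime graph of `S`, the primes of `|S|` divide
`q (q⁸ - 1) (q¹² - 1)`.
-/

set_option autoImplicit false
set_option linter.unusedSectionVars false

namespace Cfsg.Agent.H72.PGF

open Cfsg.Agent.H72.F4I Cfsg.Agent.H200.PG Cfsg.Agent.H564.NearTwo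

/-- the situation -/
structure PS (q : ℕ) (S : Type*) [Group S] : Prop where
  two : ∃ k : ℕ, 1 ≤ k ∧ q = 2 ^ k
  i₁ : Isol S (q ^ 4 + 1)
  i₂ : Isol S (mm q)
  pi : ∀ r : ℕ, r.Prime → r ∣ Nat.card S → r ∣ q ∨ r ∣ q ^ 8 - 1 ∨ r ∣ q ^ 12 - 1
  /-- the primes of `q⁴ + 1` are pairwise adjacent -/
  clq : ∀ r s : ℕ, r.Prime → s.Prime → r ≠ s → r ∣ q ^ 4 + 1 → s ∣ q ^ 4 + 1 → ∃ x : S, orderOf x = r * s

universe u v

theorem Isol.congr {S : Type u} {S' : Type v} [Group S] [Group S'] {n : ℕ} (h : Isol S n) (e : S ≃* S') :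
    Isol S' n where
  odd := h.odd
  dvd r hr hrn := by
    rw [← Nat.card_congr e.toEquiv]
    exact h.dvd r hr hrn
  nadj r s hr hs hrn hsn := fun ⟨x, hx⟩ => h.nadj r s hr hs hrn hsn ⟨e.symm x, by rw [MulEquiv.orderOf_eq, hx]⟩

/-- `N` an element order divisible by a prime of `n` : the primes of `N` divide `n` -/
theorem Isol.prime_of_elt {S : Type*} [Group S] [Finite S] {n N : ℕ} (h : Isol S n) (hN : ∃ x : S, orderOf x = N)
    {r s : ℕ} (hr : r.Prime) (hrn : r ∣ n) (hrN : r ∣ N) (hs : s.Prime) (hsN : s ∣ N) : s ∣ n := by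
  by_contra hsn
  have hne : r ≠ s := by
    rintro rfl
    exact hsn hrn
  obtain ⟨x, rfl⟩ := hN
  have h1 : r * s ∣ orderOf x := ((Nat.coprime_primes hr hs).2 hne).mul_dvd_of_dvd_of_dvd hrN hsN
  refine h.nadj r s hr hs hrn hsn ⟨x ^ (orderOf x / (r * s)), ?_⟩
  exact orderOf_pow_orderOf_div (orderOf_pos x).ne' h1

theorem Isol.not_near {S : Type*} [Group S] {n : ℕ} (h : Isol S n) {s : ℕ} (hs : s ∣ n) : ¬ Near S s := by
  have adj : ∀ {a b : ℕ}, a ∣ n → H94.PG.Adj S a b → b ∣ n := by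
    rintro a b ha ⟨h1, h2, hne, x, y, hx, hy, hxy⟩
    by_contra hb
    have hco : (orderOf x).Coprime (orderOf y) := by rw [hx, hy]; exact (Nat.coprime_primes h1 h2).2 hne
    have h3 := hxy.orderOf_mul_eq_mul_orderOf_of_coprime hco
    rw [hx, hy] at h3
    exact h.nadj a b h1 h2 ha hb ⟨x * y, h3⟩
  rintro (h1 | h1 | ⟨r, h1, h2⟩)
  · exact h.ne_two hs h1
  · exact h.ne_two (adj hs h1) rfl
  · exact h.ne_two (adj (adj hs h1) h2) rfl

/-! ### numbers -/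

section num

variable {q : ℕ}

/-- a number `≢ 1` modulo `m` with all prime divisors `≡ 1`: impossible -/
theorem mod_one_of_primes {m n : ℕ} (hn : n ≠ 0) (h : ∀ r : ℕ, r.Prime → r ∣ n → r ≡ 1 [MOD m]) : n ≡ 1 [MOD m] := by
  induction n using Nat.recOnMul with
  | zero => exact absurd rfl hn
  | one => exact Nat.ModEq.rfl
  | prime p hp => exact h p hp dvd_rfl
  | mul a b ha hb =>
    have ha0 : a ≠ 0 := by rintro rfl; simp at hn
    have hb0 : b ≠ 0 := by rintro rfl; simp at hn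
    have h1 := ha ha0 fun r hr hd => h r hr (hd.mul_right b)
    have h2 := hb hb0 fun r hr hd => h r hr (hd.mul_left a)
    simpa using h1.mul h2

theorem exists_prime_of_mod {m n : ℕ} (hn : n ≠ 0) (h : ¬ n ≡ 1 [MOD m]) : ∃ r : ℕ, r.Prime ∧ r ∣ n ∧ ¬ r ≡ 1 [MOD m] := by
  by_contra hcon
  push Not at hcon
  exact h (mod_one_of_primes hn hcon)

theorem exists_mod_three {k : ℕ} : ∃ r : ℕ, r.Prime ∧ r ∣ (2 ^ k) ^ 4 + 1 ∧ ¬ r ≡ 1 [MOD 3] := by
  refine exists_prime_of_mod (by omega) ?_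
  rw [← pow_mul, mul_comm, pow_mul]
  intro h
  have h1 : (2 ^ 4) ^ k ≡ 1 ^ k [MOD 3] := Nat.ModEq.pow k (by decide)
  rw [one_pow] at h1
  have h2 := (h1.add_right 1).symm.trans h
  revert h2
  decide

theorem exists_mod_five {k : ℕ} : ∃ r : ℕ, r.Prime ∧ r ∣ (2 ^ k) ^ 4 + 1 ∧ ¬ r ≡ 1 [MOD 5] := by
  refine exists_prime_of_mod (by omega) ?_
  rw [← pow_mul, mul_comm, pow_mul]
  intro h
  have h1 : (2 ^ 4) ^ k ≡ 1 ^ k [MOD 5] := Nat.ModEq.pow k (by decide)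
  rw [one_pow] at h1
  have h2 := (h1.add_right 1).symm.trans h
  revert h2
  decide

end num

namespace PS

variable {q : ℕ} {S : Type*} [Group S]

theorem congr {S' : Type*} [Group S'] (h : PS q S) (e : S ≃* S') : PS q S' where
  two := h.two
  i₁ := Isol.congr h.i₁ e
  i₂ := Isol.congr h.i₂ e
  pi r hr hd := h.pi r hr (by rwa [Nat.card_congr e.toEquiv])
  clq r s hr hs hne h1 h2 := by
    obtain ⟨x, hx⟩ := h.clq r s hr hs hne h1 h2
    exact ⟨e x, by rw [MulEquiv.orderOf_eq, hx]⟩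

variable (h : PS q S)

include h

theorem two_le : 2 ≤ q := by
  obtain ⟨k, hk, rfl⟩ := h.two
  calc 2 = 2 ^ 1 := rfl
    _ ≤ 2 ^ k := Nat.pow_le_pow_right (by norm_num) hk

theorem even : 2 ∣ q := by
  obtain ⟨k, hk, rfl⟩ := h.two
  exact dvd_pow_self 2 (by omega)

theorem odd_four : ¬ 2 ∣ q ^ 4 + 1 := by
  intro h1
  have h2 := (Nat.dvd_add_right (dvd_pow h.even (by norm_num : (4 : ℕ) ≠ 0))).1 h1
  omega

/-- primes of `n₁ = q⁴ + 1` -/
theorem mod_eight {s : ℕ} (hs : s.Prime) (hd : s ∣ q ^ 4 + 1) : s % 8 = 1 :=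
  prime_eight hs (by rintro rfl; exact h.odd_four hd) hd

theorem ge_seventeen {s : ℕ} (hs : s.Prime) (hd : s ∣ q ^ 4 + 1) : 17 ≤ s :=
  prime_eight_ge hs (by rintro rfl; exact h.odd_four hd) hd

/-- primes of `n₂ = q⁴ - q² + 1` -/
theorem mod_twelve {s : ℕ} (hs : s.Prime) (hd : s ∣ mm q) : s % 12 = 1 :=
  prime_mm (by have := h.two_le; omega) hs hd

theorem ge_thirteen {s : ℕ} (hs : s.Prime) (hd : s ∣ mm q) : 13 ≤ s :=
  prime_mm_ge (by have := h.two_le; omega) hs hd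

theorem not_both {s : ℕ} (hs : s.Prime) (h1 : s ∣ mm q) : ¬ s ∣ q ^ 4 + 1 :=
  not_dvd_both (by have := h.two_le; omega) hs h1

theorem three : ∃ r : ℕ, r.Prime ∧ r ∣ q ^ 4 + 1 ∧ ¬ r ≡ 1 [MOD 3] := by
  obtain ⟨k, -, rfl⟩ := h.two
  exact exists_mod_three

theorem five : ∃ r : ℕ, r.Prime ∧ r ∣ q ^ 4 + 1 ∧ ¬ r ≡ 1 [MOD 5] := by
  obtain ⟨k, -, rfl⟩ := h.two
  exact exists_mod_five

theorem exists_prime_two : ∃ r : ℕ, r.Prime ∧ r ∣ mm q := by
  have := mm_ge h.two_le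
  exact Nat.exists_prime_and_dvd (by omega)

theorem two_dvd_card_ne : 17 ∣ q ^ 4 + 1 ∨ q ≠ 2 := by
  by_cases h2 : q = 2
  · left
    rw [h2]
    decide
  · exact Or.inr h2

end PS

end Cfsg.Agent.H72.PGF
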