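import Cfsg.Agent.H72.PGF.Basic
import Cfsg.Agent.H72.F4I.ExcRow
import Cfsg.Agent.S1159

/-!
# Prime graph of `F₄(2^k)` : the exceptional rows (helper72, statement S3635)
-/

set_option autoImplicit false
set_option linter.unusedSectionVars false

namespace Cfsg.Agent.H72.PGF

open Cfsg Cfsg.Lie Cfsg.Agent.H72.F4I Cfsg.Agent.H200.PG Cfsg.Agent.H564.NearTwo
open Cfsg.Agent.H378 Cfsg.Agent.H378.ExcAdj Cfsg.Agent.H378.CycTab Cfsg.Agent.H378.ExcNear
open Cfsg.Agent.H378.AdjTab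
open Cfsg.Agent.H129.CycT

universe u

variable {q : ℕ}

theorem od_dvd_sub {v s d : ℕ} (hs : s.Prime) (hd0 : d ≠ 0) (h : od v s = d) : d ∣ s - 1 := by
  have := Fact.mk hs
  have h1 : ((v : ℕ) : ZMod s) ≠ 0 := by
    intro h0
    have h2 : orderOf ((v : ℕ) : ZMod s) = d := h
    rw [h0, orderOf_zero] at h2
    exact hd0 h2.symm
  rw [← h]
  exact ZMod.orderOf_dvd_card_sub_one h1

theorem modEq_of_od {v s d m : ℕ} (hs : s.Prime) (hd0 : d ≠ 0) (h : od v s = d) (hm : m ∣ d) : s ≡ 1 [MOD m] :=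
  ((Nat.modEq_iff_dvd' hs.one_lt.le).2 (hm.trans (od_dvd_sub hs hd0 h))).symm

section

variable {F : Type u} [Field F] [Fintype F]

/-- **`G₂(v)`** -/
theorem row_G2 (h : PS q ↥(chevG2.group F)) : False := by
  obtain ⟨r, hr, hr1, hr3⟩ := h.three
  rcases (near_G2 F hr (h.i₁.dvd r hr hr1)).resolve_left (Isol.not_near h.i₁ hr1) with h1 | h1
  · exact hr3 (modEq_of_od hr (by norm_num) h1 (by norm_num))
  · exact hr3 (modEq_of_od hr (by norm_num) h1 (by norm_num))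

/-- **`F₄(v)`, `v` odd** -/
theorem row_F4 (ho : Odd (Fintype.card F)) (h : PS q ↥(chevF4.group F)) : False := by
  obtain ⟨r, hr, hr1, hr3⟩ := h.three
  rcases (near_F4 F hr (h.i₁.dvd r hr hr1)).resolve_left (Isol.not_near h.i₁ hr1) with h1 | h1
  · obtain ⟨v, hv⟩ : ∃ v, Fintype.card F = v := ⟨_, rfl⟩
    rw [Nat.card_eq_fintype_card, hv] at h1
    rw [hv] at ho
    have h2 := dvd8 hr h1
    rw [pv8] at h2
    have h3 : r ∣ v ^ 4 + 1 := by exact_mod_cast h2
    have h4 := H134.TD.order_F4_8 hv (N := v ^ 4 + 1) (by push_cast; ring)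
    have h5 : 2 ∣ v ^ 4 + 1 := (ho.pow.add_one).two_dvd
    exact h.i₁.ne_two (Isol.prime_of_elt h.i₁ h4 hr hr1 h3 Nat.prime_two h5) rfl
  · exact hr3 (modEq_of_od hr (by norm_num) h1 (by norm_num))

/-- **`E₆(v)`** -/
theorem row_E6 (h : PS q ↥(chevE6.group F)) : False := by
  obtain ⟨r, hr, hr1, hr3⟩ := h.three
  have h1 := (near_E6 F hr (h.i₁.dvd r hr hr1)).resolve_left (Isol.not_near h.i₁ hr1)
  exact hr3 (modEq_of_od hr (by norm_num) h1 (by norm_num))

/-- **`E₇(v)`** -/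
theorem row_E7 (h : PS q ↥(chevE7.group F)) : False := by
  obtain ⟨r, hr, hr1, hr3⟩ := h.three
  obtain ⟨h3, h1⟩ := (near_E7 F hr (h.i₁.dvd r hr hr1)).resolve_left (Isol.not_near h.i₁ hr1)
  rcases h1 with h1 | h1
  · have h17 := h.ge_seventeen hr hr1
    have h8 := h.mod_eight hr hr1
    have hv2 : 2 ≤ Nat.card F := Finite.one_lt_card
    have h2 := dvd7 hr h1
    rw [pv7] at h2
    have h23 : Nat.card F = 2 ∨ Nat.card F = 3 := by omega
    rcases h23 with h23 | h23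
    · rw [h23] at h2
      norm_num at h2
      have h4 : r ∣ 127 := by exact_mod_cast h2
      have h5 := (Nat.prime_dvd_prime_iff_eq hr (by norm_num)).1 h4
      omega
    · rw [h23] at h2
      norm_num at h2
      have h4 : r ∣ 1093 := by exact_mod_cast h2
      have h5 := (Nat.prime_dvd_prime_iff_eq hr (by norm_num)).1 h4
      omega
  · exact hr3 (modEq_of_od hr (by norm_num) h1 (by norm_num))

/-- **`E₈(v)`** -/
theorem row_E8 (h : PS q ↥(chevE8.group F)) : False := by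
  obtain ⟨r, hr, hr1, hr3⟩ := h.three
  obtain ⟨s, hs, hs1, hs5⟩ := h.five
  have ar : od (Nat.card F) r = 20 := by
    rcases (near_E8 F hr (h.i₁.dvd r hr hr1)).resolve_left (Isol.not_near h.i₁ hr1) with h1 | h1 | h1 | h1
    · exact (hr3 (modEq_of_od hr (by norm_num) h1 (by norm_num))).elim
    · exact h1
    · exact (hr3 (modEq_of_od hr (by norm_num) h1 (by norm_num))).elim
    · exact (hr3 (modEq_of_od hr (by norm_num) h1 (by norm_num))).elim
  have as : od (Nat.card F) s = 24 := by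
    rcases (near_E8 F hs (h.i₁.dvd s hs hs1)).resolve_left (Isol.not_near h.i₁ hs1) with h1 | h1 | h1 | h1
    · exact (hs5 (modEq_of_od hs (by norm_num) h1 (by norm_num))).elim
    · exact (hs5 (modEq_of_od hs (by norm_num) h1 (by norm_num))).elim
    · exact h1
    · exact (hs5 (modEq_of_od hs (by norm_num) h1 (by norm_num))).elim
  have hne : r ≠ s := by
    rintro rfl
    rw [ar] at as
    norm_num at as
  obtain ⟨x, hx⟩ := h.clq r s hr hs hne hr1 hs1
  obtain ⟨v, hv⟩ : ∃ v, Fintype.card F = v := ⟨_, rfl⟩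
  rw [Nat.card_eq_fintype_card, hv] at ar as
  have hv2 : 2 ≤ v := by rw [← hv]; exact Fintype.one_lt_card
  obtain ⟨w, rfl⟩ : ∃ w, v = w + 2 := ⟨v - 2, by omega⟩
  obtain ⟨N, hN⟩ := H528.TDRow.E78.nn24 w
  obtain ⟨T, hTc, hTN, hT⟩ := exact_E8_24 hv hN
  have hsN : s ∣ Nat.card ↥T := by
    rw [hTN, ← Int.natCast_dvd_natCast, hN]
    have hd := dvd24 hs as
    rw [pv24] at hd
    refine hd.trans (dvd_of_eq ?_)
    ring
  have hx0 : orderOf x ≠ 0 := (orderOf_pos x).ne'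
  have ho : orderOf (x ^ (orderOf x / s)) = s :=
    orderOf_pow_orderOf_div hx0 (by rw [hx]; exact Dvd.intro_left _ rfl)
  obtain ⟨g, -, hg⟩ := Cfsg.Agent.H129.CycT.centralizer_conj hTc hs hsN (fun y hy hyo => (hT y hy (by
    rintro rfl
    rw [orderOf_one] at hyo
    exact hs.one_lt.ne hyo)).le) ho
  have h1 : g * x * g⁻¹ ∈ T := by
    rw [← hg, Subgroup.mem_centralizer_singleton_iff]
    exact (Commute.self_pow x _).eq
  have h2 : orderOf (g * x * g⁻¹) = orderOf x := by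
    have := orderOf_injective (MulAut.conj g).toMonoidHom (MulAut.conj g).injective x
    simpa using this
  have h3 : r ∣ N := by
    rw [← hTN]
    refine (Dvd.intro _ rfl : r ∣ r * s).trans ?_
    rw [← hx, ← h2, ← Subgroup.orderOf_mk _ h1]
    exact orderOf_dvd_natCard _
  have := Fact.mk hr
  have h4 : (1 : ZMod r) - ((w + 2 : ℕ) : ZMod r) ^ 4 + ((w + 2 : ℕ) : ZMod r) ^ 8 = 0 := by
    have h5 := (ZMod.intCast_zmod_eq_zero_iff_dvd (N : ℤ) r).2 (by exact_mod_cast h3)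
    rw [hN] at h5
    push_cast at h5 ⊢
    exact h5
  have h5 : ((w + 2 : ℕ) : ZMod r) ^ 24 = 1 := by
    linear_combination (((w + 2 : ℕ) : ZMod r) ^ 4 + 1) * (((w + 2 : ℕ) : ZMod r) ^ 12 - 1) * h4
  have h6 := orderOf_dvd_of_pow_eq_one h5
  have h7 : orderOf ((w + 2 : ℕ) : ZMod r) = 20 := ar
  rw [h7] at h6
  norm_num at h6

end

/-- **`²E₆(v)`, `v ≠ 2`** -/
theorem row_2E6 {K : Type u} [Field K] [Fintype K] {v : ℕ} (hv : IsPrimePow v) (hv2 : v ≠ 2)
    (hK : Fintype.card K = v ^ 2) (h : PS q ↥(twistedE6 K v)) : False := by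
  obtain ⟨r, hr, hr1, hr3⟩ := h.three
  rcases (TwRows.near_2E6 hv hK hr (h.i₁.dvd r hr hr1)).resolve_left (Isol.not_near h.i₁ hr1) with h1 | h1
  · exact hr3 (modEq_of_od hr (by norm_num) h1 (by norm_num))
  · exact hv2 h1.1

/-- **`³D₄(v)`** -/
theorem row_3D4 {K : Type u} [Field K] [Fintype K] {v : ℕ} (hv : IsPrimePow v)
    (hK : Fintype.card K = v ^ 3) (h : PS q ↥(twistedD4 K v)) : False := by
  obtain ⟨r, hr, hr1, hr3⟩ := h.three
  have h1 := (TwRows.near_3D4 hv hK hr (h.i₁.dvd r hr hr1)).resolve_left (Isol.not_near h.i₁ hr1)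
  exact hr3 (modEq_of_od hr (by norm_num) h1 (by norm_num))

/-- `s ∣ v² - v + 1`, `s ≠ 3` : `s ≡ 1` modulo 3 -/
theorem mod_of_six {s : ℕ} (hs : s.Prime) (hs2 : s ≠ 2) (hs3 : s ≠ 3) {x : ZMod s} (h : x ^ 2 - x + 1 = 0) :
    s ≡ 1 [MOD 3] := by
  have := Fact.mk hs
  have n2 : (2 : ZMod s) ≠ 0 := fun h0 => hs2 ((Nat.prime_dvd_prime_iff_eq hs Nat.prime_two).1
    ((ZMod.natCast_eq_zero_iff 2 s).1 (by exact_mod_cast h0)))
  have n3 : (3 : ZMod s) ≠ 0 := fun h0 => hs3 ((Nat.prime_dvd_prime_iff_eq hs Nat.prime_three).1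
    ((ZMod.natCast_eq_zero_iff 3 s).1 (by exact_mod_cast h0)))
  have h3 : x ^ 3 = -1 := by linear_combination (x + 1) * h
  have h6 : x ^ 6 = 1 := by linear_combination (x ^ 3 - 1) * h3
  have ho : orderOf x = 6 := by
    refine orderOf_eq_of_pow_and_pow_div_prime (by norm_num) h6 ?_
    intro r hr hrd
    have : r ∣ 2 * 3 := by simpa using hrd
    rcases hr.dvd_mul.1 this with h7 | h7
    · have h8 := (Nat.prime_dvd_prime_iff_eq hr Nat.prime_two).1 h7
      subst h8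
      show x ^ 3 ≠ 1
      rw [h3]
      intro h9
      apply n2
      linear_combination -h9
    · have h8 := (Nat.prime_dvd_prime_iff_eq hr Nat.prime_three).1 h7
      subst h8
      show x ^ 2 ≠ 1
      intro h9
      have h10 : x = 2 := by linear_combination h9 - h
      apply n3
      rw [h10] at h9
      linear_combination h9
  have hx0 : x ≠ 0 := by
    rintro rfl
    simp at h
  have h7 : orderOf x ∣ s - 1 := ZMod.orderOf_dvd_card_sub_one hx0
  rw [ho] at h7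
  exact ((Nat.modEq_iff_dvd' hs.one_lt.le).2 ((by norm_num : 3 ∣ 6).trans h7)).symm

/-- **`Ree(v)`** -/
theorem row_ree {K : Type u} [Field K] [Fintype K] {m : ℕ} (hm : 1 ≤ m) (hK : Fintype.card K = 3 ^ (2 * m + 1))
    (h : PS q ↥(twistedG2 K (3 ^ m))) : False := by
  have hfin : Finite ↥(Cfsg.Lie.twistedG2 K (3 ^ m)) := inferInstance
  obtain ⟨r, hr, hr1, hr3⟩ := h.three
  have h17 := h.ge_seventeen hr hr1
  have hS := Cfsg.Agent.S1159.result hm hK
  have := Fact.mk hr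
  have e1 : 3 ^ (2 * m + 1) = 3 ^ (m + 1) * 3 ^ m := by rw [← pow_add]; congr 1; omega
  have e2 : 3 ^ (m + 1) = 3 * 3 ^ m := by ring
  have hw : 3 ≤ 3 ^ m := by
    calc 3 = 3 ^ 1 := rfl
      _ ≤ 3 ^ m := Nat.pow_le_pow_right (by norm_num) hm
  have hu4 : 3 ^ (2 * m + 1) % 4 = 3 := by
    rw [pow_succ, pow_mul, Nat.mul_mod, Nat.pow_mod]
    norm_num
  have hle : 3 ^ (m + 1) ≤ 3 ^ (2 * m + 1) := Nat.pow_le_pow_right (by norm_num) (by omega)
  have key : ∀ N : ℕ, 2 ∣ N → (∃ g : ↥(Cfsg.Lie.twistedG2 K (3 ^ m)), orderOf g = N) → ¬ r ∣ N := fun N h2 hN hd =>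
    h.i₁.ne_two (Isol.prime_of_elt h.i₁ hN hr hr1 hd Nat.prime_two h2) rfl
  -- `N₁ N₂ = v² - v + 1`
  have hfin2 : ∀ N : ℕ, (N = 3 ^ (2 * m + 1) - 3 ^ (m + 1) + 1 ∨ N = 3 ^ (2 * m + 1) + 3 ^ (m + 1) + 1) → r ∣ N → False := by
    intro N hN hd
    refine hr3 (mod_of_six hr (by omega) (by omega) (x := ((3 ^ (2 * m + 1) : ℕ) : ZMod r)) ?_)
    have h0 := (ZMod.natCast_eq_zero_iff N r).2 hd
    generalize 3 ^ m = w at *
    have hv : 3 ^ (2 * m + 1) = 3 * w ^ 2 := by rw [e1, e2]; ring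
    rw [hv, e2] at hN hle
    rw [hv]
    rcases hN with rfl | rfl
    · rw [Nat.cast_add, Nat.cast_sub hle] at h0
      push_cast at h0 ⊢
      linear_combination (3 * (w : ZMod r) ^ 2 + 3 * w + 1) * h0
    · push_cast at h0 ⊢
      linear_combination (3 * (w : ZMod r) ^ 2 - 3 * w + 1) * h0
  rcases (hS _).1 (exists_prime_orderOf_dvd_card' r (h.i₁.dvd r hr hr1)) with h1 | h1 | h1 | h1 | h1 | h1
  · have := Nat.le_of_dvd (by norm_num) h1
    omega
  · have := Nat.le_of_dvd (by norm_num) h1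
    omega
  · exact key _ (by omega) ((hS _).2 (Or.inr (Or.inr (Or.inl dvd_rfl)))) h1
  · exact key _ (by omega) ((hS _).2 (Or.inr (Or.inr (Or.inr (Or.inl dvd_rfl))))) h1
  · exact hfin2 _ (Or.inl rfl) h1
  · exact hfin2 _ (Or.inr rfl) h1

end Cfsg.Agent.H72.PGF
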