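import Cfsg.Agent.H72.PGF.Basic
import Cfsg.Agent.H493.PGRows2

/-!
# Prime graph of `F₄(2^k)` : `PΩ⁻_{2m}(v)`, `v` odd (helper72, statement S3635)
-/

set_option autoImplicit false
set_option linter.unusedSectionVars false

namespace Cfsg.Agent.H72.PGF

open Cfsg Cfsg.Agent.H72.F4I Cfsg.Agent.H200.PG
open Cfsg.Agent.H493.PG (Conn)
open Cfsg.Agent.H493.PGRows (conn_of)

/-- `3 ∣ k` : the primes of `n₂` are `≡ 1` modulo 9 -/
theorem prime_nine {c s : ℕ} (hc : 1 ≤ c) (hs : s.Prime) (hd : s ∣ mm (c ^ 3)) : s ≡ 1 [MOD 9] := by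
  have h12 := prime_mm (Nat.one_le_pow _ _ hc) hs hd
  have := Fact.mk hs
  have n2 : (2 : ZMod s) ≠ 0 := fun h0 => by
    have h1 := (Nat.prime_dvd_prime_iff_eq hs Nat.prime_two).1 ((ZMod.natCast_eq_zero_iff 2 s).1 (by exact_mod_cast h0))
    omega
  have n3 : (3 : ZMod s) ≠ 0 := fun h0 => by
    have h1 := (Nat.prime_dvd_prime_iff_eq hs Nat.prime_three).1
      ((ZMod.natCast_eq_zero_iff 3 s).1 (by exact_mod_cast h0))
    omega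
  obtain ⟨x, hx⟩ : ∃ x : ZMod s, x = ((c : ℕ) : ZMod s) := ⟨_, rfl⟩
  have hz : x ^ 12 - x ^ 6 + 1 = 0 := by
    have h4 : ((mm (c ^ 3) : ℕ) : ZMod s) = 0 := (ZMod.natCast_eq_zero_iff _ _).2 hd
    have h5 : ((mm (c ^ 3) + (c ^ 3) ^ 2 : ℕ) : ZMod s) = (((c ^ 3) ^ 4 + 1 : ℕ) : ZMod s) := by
      rw [mm_add_sq (Nat.one_le_pow _ _ hc)]
    push_cast at h5
    rw [h4, zero_add, ← hx] at h5
    linear_combination -h5
  have h18 : x ^ 18 = -1 := by linear_combination (x ^ 6 + 1) * hz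
  have h36 : x ^ 36 = 1 := by linear_combination (x ^ 18 - 1) * h18
  have h12 : x ^ 12 ≠ 1 := by
    intro h
    have h1 : x ^ 6 = 2 := by linear_combination h - hz
    have h2 : x ^ 12 = 4 := by linear_combination (x ^ 6 + 2) * h1
    apply n3
    linear_combination h - h2
  have hx0 : x ≠ 0 := by
    rintro rfl
    simp at hz
  have ho : 9 ∣ orderOf x := by
    have h1 : orderOf x ∣ 2 ^ 2 * 3 ^ 2 := orderOf_dvd_of_pow_eq_one h36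
    by_contra hcon
    apply h12
    rw [← orderOf_dvd_iff_pow_eq_one]
    have h2 := Nat.le_of_dvd (by norm_num) h1
    have h3 : orderOf x ∣ 36 := h1
    have h4 : 0 < orderOf x := Nat.pos_of_dvd_of_pos h1 (by norm_num)
    generalize orderOf x = o at *
    interval_cases o <;> omega
  have h7 : orderOf x ∣ s - 1 := ZMod.orderOf_dvd_card_sub_one hx0
  exact ((Nat.modEq_iff_dvd' hs.one_lt.le).2 (ho.trans h7)).symm

/-- `73 ∤ q²⁴ - 1` if `3 ∤ k` -/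
theorem not_dvd_73 {k : ℕ} (h3 : k % 3 ≠ 0) : ¬ 73 ∣ (2 ^ k) ^ 24 - 1 := by
  intro h
  have h1 : 1 ≡ (2 ^ k) ^ 24 [MOD 73] := (Nat.modEq_iff_dvd' (Nat.one_le_pow _ _ (by positivity))).2 h
  rw [← pow_mul, mul_comm, pow_mul] at h1
  have h2 : (2 ^ 24) ^ k ≡ 64 ^ k [MOD 73] := Nat.ModEq.pow k (by decide)
  have h4 := h1.trans h2
  have h5 : k = 3 * (k / 3) + k % 3 := (Nat.div_add_mod k 3).symm
  rw [h5, pow_add, pow_mul] at h4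
  have h6 : (64 ^ 3) ^ (k / 3) ≡ 1 ^ (k / 3) [MOD 73] := Nat.ModEq.pow _ (by decide)
  rw [one_pow] at h6
  have h7 := h4.trans (h6.mul_right _)
  have h8 : k % 3 < 3 := Nat.mod_lt _ (by norm_num)
  generalize k % 3 = a at *
  interval_cases a
  · exact h3 rfl
  · revert h7
    decide
  · revert h7
    decide

/-- `41 ∤ q⁴ + 1` -/
theorem not_dvd_41 {k : ℕ} : ¬ 41 ∣ (2 ^ k) ^ 4 + 1 := by
  intro h
  have h1 : (2 ^ k) ^ 4 + 1 ≡ 0 [MOD 41] := (Nat.modEq_zero_iff_dvd).2 h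
  rw [← pow_mul, mul_comm, pow_mul] at h1
  have h5 : k = 5 * (k / 5) + k % 5 := (Nat.div_add_mod k 5).symm
  rw [h5, pow_add, pow_mul] at h1
  have h6 : ((2 ^ 4) ^ 5) ^ (k / 5) ≡ 1 ^ (k / 5) [MOD 41] := Nat.ModEq.pow _ (by decide)
  rw [one_pow] at h6
  have h7 := ((h6.mul_right ((2 ^ 4) ^ (k % 5))).add_right 1).symm.trans h1
  have h8 : k % 5 < 5 := Nat.mod_lt _ (by norm_num)
  generalize k % 5 = a at *
  interval_cases a <;> revert h7 <;> decide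

theorem three_even {w : ℕ} (hw : Even w) (hw1 : 1 ≤ w) : ∃ A, 3 ^ w + 1 = 2 * A ∧ ¬ 2 ∣ A ∧ ¬ A ≡ 1 [MOD 3] := by
  obtain ⟨j, rfl⟩ := hw
  have h8 : 3 ^ (j + j) ≡ 1 [MOD 4] := by
    rw [← two_mul, pow_mul]
    have := Nat.ModEq.pow j (show 3 ^ 2 ≡ 1 [MOD 4] by decide)
    rwa [one_pow] at this
  have h3 : 3 ^ (j + j) % 3 = 0 := Nat.mod_eq_zero_of_dvd (dvd_pow_self 3 (by omega))
  have h9 : 3 ^ (j + j) % 4 = 1 := h8
  refine ⟨(3 ^ (j + j) + 1) / 2, by omega, by omega, fun h => ?_⟩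
  have h1 : (3 ^ (j + j) + 1) / 2 % 3 = 1 := h
  omega

theorem three_odd {w : ℕ} (hw : Odd w) (hw1 : 2 ≤ w) : ∃ A, 3 ^ w + 1 = 4 * A ∧ ¬ 2 ∣ A ∧ ¬ A ≡ 1 [MOD 9] := by
  obtain ⟨j, rfl⟩ := hw
  have h8 : 3 ^ (2 * j + 1) ≡ 3 [MOD 8] := by
    rw [pow_succ, pow_mul]
    have := (Nat.ModEq.pow j (show 3 ^ 2 ≡ 1 [MOD 8] by decide)).mul_right 3
    rwa [one_pow] at this
  have h3 : 3 ^ (2 * j + 1) % 9 = 0 := Nat.mod_eq_zero_of_dvd (pow_dvd_pow 3 hw1 : 3 ^ 2 ∣ 3 ^ (2 * j + 1))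
  have h9 : 3 ^ (2 * j + 1) % 8 = 3 := h8
  generalize 3 ^ (2 * j + 1) = X at *
  refine ⟨(X + 1) / 4, by omega, by omega, fun h => ?_⟩
  have h1 : (X + 1) / 4 % 9 = 1 := h
  omega

theorem key {k w₁ w₂ : ℕ} (hk : 1 ≤ k) (h4 : 3 ≤ w₂) (h12 : w₂ = w₁ + 1 ∨ w₁ = w₂ + 1)
    (c₁ : ∀ s : ℕ, s.Prime → s ≠ 2 → s ∣ 3 ^ w₁ + 1 → s ∣ (2 ^ k) ^ 4 + 1)
    (c₂ : ∀ s : ℕ, s.Prime → s ≠ 2 → s ∣ 3 ^ w₂ + 1 → s ∣ mm (2 ^ k)) :
    ¬ k % 3 = 0 ∧ 5 ≤ w₂ ∧ w₁ ≠ 4 := by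
  have h2 : 2 ≤ 2 ^ k := by
    calc 2 = 2 ^ 1 := rfl
      _ ≤ 2 ^ k := Nat.pow_le_pow_right (by norm_num) hk
  have hodd : Odd w₂ := by
    by_contra hcon
    obtain ⟨A, hA, hA2, hA3⟩ := three_even (Nat.not_odd_iff_even.1 hcon) (by omega)
    obtain ⟨s, hs, hsA, hs3⟩ := exists_prime_of_mod (by rintro rfl; exact hA2 (dvd_zero 2)) hA3
    have h3 := prime_mm (by omega) hs (c₂ s hs (by rintro rfl; exact hA2 hsA) (hA ▸ hsA.mul_left 2))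
    apply hs3
    show s % 3 = 1
    omega
  refine ⟨fun h0 => ?_, ?_, ?_⟩
  · obtain ⟨A, hA, hA2, hA3⟩ := three_odd hodd (by omega)
    obtain ⟨s, hs, hsA, hs3⟩ := exists_prime_of_mod (by rintro rfl; exact hA2 (dvd_zero 2)) hA3
    have h3 := c₂ s hs (by rintro rfl; exact hA2 hsA) (hA ▸ hsA.mul_left 4)
    obtain ⟨j, rfl⟩ : ∃ j, k = j * 3 := ⟨k / 3, by omega⟩
    rw [pow_mul] at h3
    exact hs3 (prime_nine (Nat.one_le_two_pow) hs h3)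
  · by_contra hcon
    obtain ⟨j, hj⟩ := hodd
    have h3 : w₂ = 3 := by omega
    subst h3
    have h5 := prime_mm (by omega) (by norm_num) (c₂ 7 (by norm_num) (by norm_num) (by norm_num))
    omega
  · rintro rfl
    exact not_dvd_41 (c₁ 41 (by norm_num) (by norm_num) (by norm_num))

variable {q : ℕ}

/-- **`PΩ⁻_{2m}(v)`, `v` odd** -/
theorem row_omega_minus {F : Type*} [Field F] [Fintype F] (ho : Odd (Fintype.card F)) {m : ℕ} {a b : F} (hm : 4 ≤ m)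
    (hab : ∀ z₁ z₂ : F, z₁ ^ 2 + a * z₁ * z₂ + b * z₂ ^ 2 = 0 → z₁ = 0 ∧ z₂ = 0)
    (h : PS q (Cfsg.POmega F (Cfsg.quadFormMinus (m - 1) F a b))) : False := by
  have hfin : Finite (Cfsg.POmega F (Cfsg.quadFormMinus (m - 1) F a b)) := inferInstance
  have hcard0 := Cfsg.Agent.S0294.result (F := F) rfl m hm a b hab
  have hcard := hcard0
  simp only [← Nat.card_eq_fintype_card] at hcard
  have hs := H182.Sign.sg_minusForm (F := F) (m - 1) hab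
  rw [Nat.sub_add_cancel (by omega)] at hs
  rw [← LieClassical.OrthForms.coe_minusForm] at hcard h hfin hcard0
  have hv : 2 ≤ Nat.card F := Finite.one_lt_card
  have ho' : Odd (Nat.card F) := by rwa [Nat.card_eq_fintype_card]
  -- the primes of `n₁`, `n₂`
  have cs : ∀ {n r : ℕ}, Isol (Cfsg.POmega F ⇑(LieClassical.OrthForms.minusForm (m - 1) F a b)) n → r.Prime → r ∣ n →
      r ≠ 2 ∧ ((r ∣ Nat.card F ^ (m - 1) + 1 ∧ Nat.card F ≤ 3) ∨ r ∣ Nat.card F ^ m + 1) := by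
    intro n r hn hr hd
    have h2 := hn.ne_two hd
    exact ⟨h2, (H182.Orth.minus_cases hs hm hcard hr h2 (hn.dvd r hr hd)).resolve_left fun h3 =>
      hn.not_two hd (conn_of h3)⟩
  have cn : ∀ {w r s : ℕ}, (w = m - 1 ∨ w = m) → r.Prime → s.Prime → r ≠ 2 → s ≠ 2 → r ∣ Nat.card F ^ w + 1 →
      s ∣ Nat.card F ^ w + 1 → Conn (Cfsg.POmega F ⇑(LieClassical.OrthForms.minusForm (m - 1) F a b)) r s := by
    intro w r s hw hr hs' hr2 hs2 h1 h2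
    refine conn_of (H182.Orth.conn_pow_add hs hm (by omega) ?_ hr hs' hr2 hs2 h1 h2)
    rcases hw with rfl | rfl
    · exact Or.inl (by omega)
    · exact Or.inr ⟨rfl, rfl⟩
  obtain ⟨r₁, hr₁, hd₁, -⟩ := h.three
  obtain ⟨r₂, hr₂, hd₂⟩ := h.exists_prime_two
  obtain ⟨n₁, e₁⟩ := cs h.i₁ hr₁ hd₁
  obtain ⟨n₂, e₂⟩ := cs h.i₂ hr₂ hd₂
  have same : ∀ {w : ℕ}, (w = m - 1 ∨ w = m) → r₁ ∣ Nat.card F ^ w + 1 → r₂ ∣ Nat.card F ^ w + 1 → False :=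
    fun hw h1 h2 => h.not_both hr₂ hd₂ (h.i₁.conn hd₁ (cn hw hr₁ hr₂ n₁ n₂ h1 h2))
  obtain ⟨w₁, w₂, hw, hv3, f₁, f₂⟩ : ∃ w₁ w₂ : ℕ, ((w₁ = m - 1 ∧ w₂ = m) ∨ (w₁ = m ∧ w₂ = m - 1)) ∧ Nat.card F ≤ 3 ∧
      r₁ ∣ Nat.card F ^ w₁ + 1 ∧ r₂ ∣ Nat.card F ^ w₂ + 1 := by
    rcases e₁ with ⟨e₁, h3⟩ | e₁
    · rcases e₂ with ⟨e₂, -⟩ | e₂
      · exact (same (Or.inl rfl) e₁ e₂).elim
      · exact ⟨m - 1, m, Or.inl ⟨rfl, rfl⟩, h3, e₁, e₂⟩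
    · rcases e₂ with ⟨e₂, h3⟩ | e₂
      · exact ⟨m, m - 1, Or.inr ⟨rfl, rfl⟩, h3, e₁, e₂⟩
      · exact (same (Or.inr rfl) e₁ e₂).elim
  have h3 : Nat.card F = 3 := by
    rw [Nat.odd_iff] at ho'
    omega
  rw [h3] at f₁ f₂
  have hw₁ : w₁ = m - 1 ∨ w₁ = m := by omega
  have hw₂ : w₂ = m - 1 ∨ w₂ = m := by omega
  obtain ⟨k, hk, hqk⟩ := h.two
  obtain ⟨k3, hw5, hw4⟩ := key (k := k) (w₁ := w₁) (w₂ := w₂) hk (by omega) (by omega)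
    (fun s hs' hs2 hd => by
      rw [← hqk]
      exact h.i₁.conn hd₁ (cn hw₁ hr₁ hs' n₁ hs2 (by rw [h3]; exact f₁) (by rw [h3]; exact hd)))
    (fun s hs' hs2 hd => by
      rw [← hqk]
      exact h.i₂.conn hd₂ (cn hw₂ hr₂ hs' n₂ hs2 (by rw [h3]; exact f₂) (by rw [h3]; exact hd)))
  have hm6 : 6 ≤ m := by omega
  -- `73`
  have p73 : Nat.Prime 73 := by norm_num
  have h73 : 73 ∣ Nat.card (Cfsg.POmega F ⇑(LieClassical.OrthForms.minusForm (m - 1) F a b)) := by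
    have h5 : 73 ∣ Nat.gcd 4 (3 ^ m + 1) *
        Nat.card (Cfsg.POmega F ⇑(LieClassical.OrthForms.minusForm (m - 1) F a b)) := by
      rw [h3] at hcard
      rw [hcard]
      rcases Nat.eq_or_lt_of_le hm6 with h6 | h6
      · rw [← h6]
        exact ((by norm_num : 73 ∣ 3 ^ 6 + 1).mul_left _).mul_right _
      · refine Dvd.dvd.mul_left ((by norm_num : 73 ∣ 3 ^ (2 * (5 + 1)) - 1).trans ?_) _
        exact Finset.dvd_prod_of_mem (fun i => 3 ^ (2 * (i + 1)) - 1) (Finset.mem_range.2 (by omega))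
    refine (p73.dvd_mul.1 h5).resolve_left fun h6 => ?_
    have := Nat.le_of_dvd (by norm_num) (h6.trans (Nat.gcd_dvd_left _ _))
    omega
  refine not_dvd_73 k3 ?_
  rw [← hqk]
  have hsub : ∀ {i : ℕ}, i ∣ 24 → q ^ i - 1 ∣ q ^ 24 - 1 := by
    rintro i ⟨j, hj⟩
    rw [hj, pow_mul]
    have := Nat.sub_dvd_pow_sub_pow (q ^ i) 1 j
    rwa [one_pow] at this
  rcases h.pi 73 p73 h73 with h5 | h5 | h5
  · rw [hqk] at h5
    have := (Nat.prime_dvd_prime_iff_eq p73 Nat.prime_two).1 (p73.dvd_of_dvd_pow h5)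
    omega
  · exact h5.trans (hsub (by norm_num))
  · exact h5.trans (hsub (by norm_num))

end Cfsg.Agent.H72.PGF
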