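import Cfsg.Agent.H72.PGF.Small
import Cfsg.Agent.H72.PGF.Minus
import Cfsg.Agent.NotCT.Orders
import Cfsg.Prelude.Def_Classification2

/-!
# Prime graph of `F₄(2^k)` : the sporadic groups and the Tits group (helper72, statement S3635)
-/

set_option autoImplicit false
set_option linter.unusedSectionVars false

namespace Cfsg.Agent.H72.PGF

open Cfsg Cfsg.Agent.H72.F4I Cfsg.Agent.NotCT

variable {q : ℕ}

theorem le_of_dvd_lcm {r : ℕ} (hr : r.Prime) (h : r ∣ 2 ^ 46 * 3 ^ 20 * 5 ^ 9 * 7 ^ 6 * 11 ^ 3 * 17 ^ 1 * 19 ^ 1 *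
    23 ^ 1 * 29 ^ 1 * 31 ^ 1 * 41 ^ 1 * 43 ^ 1 * 47 ^ 1 * 59 ^ 1 * 67 ^ 1 * 71 ^ 1 * (13 ^ 3 * 37 ^ 1)) : r ≤ 71 := by
  have key : ∀ p k : ℕ, 0 < p → p ≤ 71 → r ∣ p ^ k → r ≤ 71 := fun p k hp hp2 hd =>
    (Nat.le_of_dvd hp (hr.dvd_of_dvd_pow hd)).trans hp2
  simp only [hr.dvd_mul] at h
  rcases h with ((((((((((((((((h | h) | h) | h) | h) | h) | h) | h) | h) | h) | h) | h) | h) | h) | h) | h) | (h | h))
  all_goals exact key _ _ (by norm_num) (by norm_num) h

/-- `q⁴ + 1 = 17^a` : `q = 2` -/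
theorem eq_two_of_pow {k a : ℕ} (hk : 1 ≤ k) (h : (2 ^ k) ^ 4 + 1 = 17 ^ a) : 2 ^ k = 2 := by
  have hq : 2 ≤ 2 ^ k := by
    calc 2 = 2 ^ 1 := rfl
      _ ≤ 2 ^ k := Nat.pow_le_pow_right (by norm_num) hk
  have hao := odd_of_pow (not_sq_one hq) h
  obtain ⟨W, hW, hW'⟩ := F4I.Iso.exists_geom (q := 17) (by decide) hao
  have h1 : 16 * W = (2 ^ k) ^ 4 := by omega
  have h2 : Nat.Coprime W ((2 ^ k) ^ 4) := by
    rw [← pow_mul]
    exact Nat.Coprime.pow_right _ (Nat.coprime_two_right.2 hW)
  have h3 : W = 1 := h2.eq_one_of_dvd (h1 ▸ Dvd.intro_left _ rfl)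
  rw [h3] at h1
  exact Nat.pow_left_injective (by norm_num : (4 : ℕ) ≠ 0) (by
    show (2 ^ k) ^ 4 = 2 ^ 4
    omega)

theorem row_card {S : Type*} [Group S] [Finite S] (h : PS q S) {N : ℕ} (hN : Nat.card S = N)
    (hd : N ∣ 2 ^ 46 * 3 ^ 20 * 5 ^ 9 * 7 ^ 6 * 11 ^ 3 * 17 ^ 1 * 19 ^ 1 * 23 ^ 1 * 29 ^ 1 *
      31 ^ 1 * 41 ^ 1 * 43 ^ 1 * 47 ^ 1 * 59 ^ 1 * 67 ^ 1 * 71 ^ 1 * (13 ^ 3 * 37 ^ 1))
    (h2 : ¬ 13 ∣ N ∨ ¬ 17 ∣ N ∨ 11 ∣ N) : False := by
  obtain ⟨k, hk, hqk⟩ := h.two
  have hq2 : q = 2 := by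
    obtain ⟨a, ha⟩ := eq_pow (n := q ^ 4 + 1) (l := 17) (by omega) fun r hr hrd => by
      have h3 := le_of_dvd_lcm hr ((hN ▸ h.i₁.dvd r hr hrd).trans hd)
      have h4 := h.mod_eight hr hrd
      have h5 : r ≠ 41 := by
        rintro rfl
        rw [hqk] at hrd
        exact not_dvd_41 hrd
      clear hd h2
      have h6 := hr.two_le
      by_contra h7
      have h8 : r = 9 ∨ r = 25 ∨ r = 33 ∨ r = 49 ∨ r = 57 ∨ r = 65 := by omega
      rcases h8 with rfl | rfl | rfl | rfl | rfl | rfl <;> revert hr <;> norm_num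
    rw [hqk] at ha ⊢
    exact eq_two_of_pow hk ha
  subst hq2
  rcases h2 with h2 | h2 | h2
  · exact h2 (hN ▸ h.i₂.dvd 13 (by norm_num) (by decide))
  · exact h2 (hN ▸ h.i₁.dvd 17 (by norm_num) (by decide))
  · have h3 := h.pi 11 (by norm_num) (hN ▸ h2)
    revert h3
    norm_num

/-- **the Tits group** -/
theorem row_tits {S : Type*} [Group S] [Finite S] (h : PS q S) (hS : Lie.IsoTits S) : False :=
  row_card h (Orders.tits hS) (by decide +kernel) (by decide +kernel)

/-- **the sporadic groups** -/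
theorem row_spor {S : Type*} [Group S] [Finite S] (h : PS q S) (hS : IsSporadicGroup S) : False := by
  rcases hS with hS | hS | hS | hS | hS | hS | hS | hS | hS | hS | hS | hS | hS | hS | hS | hS | hS | hS | hS | hS | hS | hS |
    hS | hS | hS | hS
  · exact row_card h (Orders.m11 hS) (by decide +kernel) (by decide +kernel)
  · exact row_card h (Orders.m12 hS) (by decide +kernel) (by decide +kernel)
  · exact row_card h (Orders.m22 hS) (by decide +kernel) (by decide +kernel)
  · exact row_card h (Orders.m23 hS) (by decide +kernel) (by decide +kernel)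
  · exact row_card h (Orders.m24 hS) (by decide +kernel) (by decide +kernel)
  · exact row_card h (Orders.j1 hS) (by decide +kernel) (by decide +kernel)
  · exact row_card h (Orders.j2 hS) (by decide +kernel) (by decide +kernel)
  · exact row_card h (Orders.j3 hS) (by decide +kernel) (by decide +kernel)
  · exact row_card h (Orders.j4 hS) (by decide +kernel) (by decide +kernel)
  · exact row_card h (Orders.co1 hS) (by decide +kernel) (by decide +kernel)
  · exact row_card h (Orders.co2 hS) (by decide +kernel) (by decide +kernel)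
  · exact row_card h (Orders.co3 hS) (by decide +kernel) (by decide +kernel)
  · exact row_card h (Orders.mcl hS) (by decide +kernel) (by decide +kernel)
  · exact row_card h (Orders.hs hS) (by decide +kernel) (by decide +kernel)
  · exact row_card h (Orders.suz hS) (by decide +kernel) (by decide +kernel)
  · exact row_card h (Orders.he hS) (by decide +kernel) (by decide +kernel)
  · exact row_card h (Orders.ru hS) (by decide +kernel) (by decide +kernel)
  · exact row_card h (Orders.on hS) (by decide +kernel) (by decide +kernel)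
  · exact row_card h (Orders.ly hS) (by decide +kernel) (by decide +kernel)
  · exact row_card h (Orders.fi22 hS) (by decide +kernel) (by decide +kernel)
  · exact row_card h (Orders.fi23 hS) (by decide +kernel) (by decide +kernel)
  · exact row_card h (Orders.fi24 hS) (by decide +kernel) (by decide +kernel)
  · exact row_card h (Orders.hn hS) (by decide +kernel) (by decide +kernel)
  · exact row_card h (Orders.th hS) (by decide +kernel) (by decide +kernel)
  · exact row_card h (Orders.b hS) (by decide +kernel) (by decide +kernel)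
  · exact row_card h (Orders.m hS) (by decide +kernel) (by decide +kernel)

end Cfsg.Agent.H72.PGF
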