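import Cfsg.Agent.H72.PGF.Small
import Cfsg.Agent.H72.PGF.Minus
import Cfsg.Agent.H72.PGF.Exc
import Cfsg.Agent.H72.PGF.Spor
import Cfsg.Agent.H912.KnownSplit
import Cfsg.Agent.H200.PG.Ident
import Cfsg.Agent.S1062

/-!
# Prime graph of `F₄(2^k)` : the identification (helper72, statement S3635)

* `false_of_other` : `PS q S`, `S` of Lie type in odd characteristic: impossible;
* `ident_f4` : a known simple group `S` with the hypotheses `Hyp L S (q⁴ + 1) (q⁴ - q² + 1)` of `H415/PG/Def.lean` and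
  pairwise adjacent primes of `q⁴ + 1` is `L`.
-/

set_option autoImplicit false
set_option linter.unusedSectionVars false

namespace Cfsg.Agent.H72.PGF

open Cfsg Cfsg.Lie Cfsg.Agent.H72.F4I Cfsg.Agent.H200.PG
open Cfsg.Agent.H415.PG3 (Ip Hyp)

universe u v

variable {q : ℕ}

theorem ne_pow_of_odd {r f : ℕ} (hr : r.Prime) (hr2 : r ≠ 2) {N : ℕ} (hN : 2 ∣ N) : r ^ f ≠ N := by
  intro h
  rw [← h] at hN
  exact hr2 ((Nat.prime_dvd_prime_iff_eq Nat.prime_two hr).1 (Nat.prime_two.dvd_of_dvd_pow hN)).symm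

theorem row_psu43' {F : Type*} [Field F] [Fintype F] {v : ℕ} (hv : v = 3) (hF : Fintype.card F = v ^ 2)
    (h : PS q (PSU 4 F v)) : False := by
  subst hv
  exact row_psu43 hF h

/-- **Lie type in odd characteristic.** -/
theorem false_of_other {S : Type u} [Group S] [Finite S] (h2 : 2 ∣ Nat.card S) (h : PS q S) {r : ℕ} (hr : r.Prime)
    (hr2 : r ≠ 2) (hS : IsLieTypeChar r S) : False := by
  obtain ⟨fam, f, d, N, hfam, hSh⟩ := H426.LieFam.exists_fam hr hS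
  have hT : Tri S := by
    refine h.i₁.tri h.i₂ ?_ ?_ ?_
    · have := h.two_le
      have : 1 ≤ q ^ 4 := Nat.one_le_pow _ _ (by omega)
      omega
    · have := mm_ge h.two_le
      omega
    · exact Nat.Coprime.symm (Nat.coprime_of_dvd fun s hs h1 h2 => h.not_both hs h1 h2)
  have hodd : Odd (r ^ f) := (hr.odd_of_ne_two hr2).pow
  rcases hT.fam h2 hr hSh.f_pos hfam with rfl | ⟨rfl, h3 | h3⟩ | ⟨rfl, h3⟩ | ⟨rfl, h3⟩ | ⟨m, rfl⟩ | rfl | rfl | rfl | rfl | rfl |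
    rfl | rfl | rfl
  · obtain ⟨-, h4, F, _, _, _, hF, ⟨e⟩⟩ := hfam
    exact row_psl2 (by rwa [hF]) (by rw [hF]; exact h4 rfl) (h.congr e)
  · exact ne_pow_of_odd hr hr2 (by norm_num) h3
  · exact ne_pow_of_odd hr hr2 (by norm_num) h3
  · obtain ⟨-, -, F, _, _, _, hF, ⟨e⟩⟩ := hfam
    exact row_psu43' h3 hF (h.congr e)
  · exact ne_pow_of_odd hr hr2 (by norm_num) h3
  · obtain ⟨hm, F, _, _, _, a, b, hF, hab, ⟨e⟩⟩ := hfam
    exact row_omega_minus (by rwa [hF]) hm hab (h.congr e)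
  · obtain ⟨-, F, _, _, _, hF, ⟨e⟩⟩ := hfam
    exact row_G2 (h.congr e)
  · obtain ⟨F, _, _, _, hF, ⟨e⟩⟩ := hfam
    exact row_F4 (by rwa [hF]) (h.congr e)
  · obtain ⟨F, _, _, _, hF, ⟨e⟩⟩ := hfam
    exact row_E7 (h.congr e)
  · obtain ⟨F, _, _, _, hF, ⟨e⟩⟩ := hfam
    exact row_E8 (h.congr e)
  · obtain ⟨K, _, _, _, hK, ⟨e⟩⟩ := hfam
    exact row_2E6 (hr.isPrimePow.pow (by have := hSh.f_pos; omega)) (ne_pow_of_odd hr hr2 (by norm_num)) hK
      (h.congr e)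
  · exact hr2 hfam.1
  · obtain ⟨-, m, hm, -, K, _, _, hK, ⟨e⟩⟩ := hfam
    exact row_ree hm hK (h.congr e)
  · exact hr2 hfam.1

theorem ps_of_hyp {k : ℕ} (hk : 1 ≤ k) {L : Type v} [Group L] [Finite L] (hL : H426.LieFam.Fam.Is 2 k L .f4)
    {S : Type u} [Group S] [Finite S] (h : Hyp L S ((2 ^ k) ^ 4 + 1) ((2 ^ k) ^ 4 - (2 ^ k) ^ 2 + 1))
    (hclq : ∀ r s : ℕ, r.Prime → s.Prime → r ≠ s → r ∣ (2 ^ k) ^ 4 + 1 → s ∣ (2 ^ k) ^ 4 + 1 →
      ∃ x : S, orderOf x = r * s) : PS (2 ^ k) S where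
  two := ⟨k, hk, rfl⟩
  i₁ := isol_of_ip h.i₁
  i₂ := isol_of_ip h.i₂
  pi r hr hd := by
    obtain ⟨F, _, _, _, hF, ⟨e⟩⟩ := hL
    have h1 := h.pi r hr hd
    rw [Nat.card_congr e.toEquiv, S1062.result hF] at h1
    have hsub : ∀ (Q i j : ℕ), Q ^ i - 1 ∣ Q ^ (i * j) - 1 := fun Q i j => by
      rw [pow_mul]
      have := Nat.sub_dvd_pow_sub_pow (Q ^ i) 1 j
      rwa [one_pow] at this
    simp only [hr.dvd_mul] at h1
    rcases h1 with (((h1 | h1) | h1) | h1) | h1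
    · exact Or.inl (hr.dvd_of_dvd_pow h1)
    · exact Or.inr (Or.inl (h1.trans (hsub _ 2 4)))
    · exact Or.inr (Or.inr (h1.trans (hsub _ 6 2)))
    · exact Or.inr (Or.inl h1)
    · exact Or.inr (Or.inr h1)
  clq := hclq

/-- **The identification.** -/
theorem ident_f4 {k : ℕ} (hk : 1 ≤ k) {L : Type v} [Group L] [Finite L] (hL : H426.LieFam.Fam.Is 2 k L .f4)
    {S : Type u} [Group S] [Finite S] (hna : ¬ IsMulCommutative S) (h2 : 2 ∣ Nat.card S) (hS : IsKnownSimple' S)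
    (h : Hyp L S ((2 ^ k) ^ 4 + 1) ((2 ^ k) ^ 4 - (2 ^ k) ^ 2 + 1))
    (hclq : ∀ r s : ℕ, r.Prime → s.Prime → r ≠ s → r ∣ (2 ^ k) ^ 4 + 1 → s ∣ (2 ^ k) ^ 4 + 1 →
      ∃ x : S, orderOf x = r * s) : Nonempty (S ≃* L) := by
  have hP := ps_of_hyp hk hL h hclq
  have hpc : ¬ IsPrimeCyclic S := fun hp => by
    have f : Fact (Nat.card S).Prime := ⟨hp⟩
    have hc : IsCyclic S := isCyclic_of_prime_card (p := Nat.card S) rfl
    exact hna ⟨⟨fun a b => (IsCyclic.commGroup (α := S)).mul_comm a b⟩⟩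
  rcases H912.Known.known_split hS hpc with hS | ⟨r, hr, hS⟩ | hS | hS
  · obtain ⟨m, -, ⟨e⟩⟩ := hS
    exact (row_alt (hP.congr e)).elim
  · by_cases hr2 : r = 2
    · subst hr2
      refine iso_f4 hk hL hS h.pi h.i₁ h.i₂ ?_
      exact Nat.Coprime.symm (Nat.coprime_of_dvd fun s hs h1 h2 => hP.not_both hs h1 h2)
    · exact (false_of_other h2 hP hr hr2 hS).elim
  · exact (row_tits hP hS).elim
  · exact (row_spor hP hS).elim

end Cfsg.Agent.H72.PGF
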