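import Cfsg.Agent.H72.PGF.Basic
import Cfsg.Agent.H72.F4I.Iso.Orth
import Cfsg.Agent.H376.CocAlt
import Cfsg.Agent.S2466
import Cfsg.Agent.S2475
import Cfsg.Agent.H948.UMain

/-!
# Prime graph of `F₄(2^k)` : `A_m`, `PSL₂(u)` (`u` odd), `PSU₄(3)` (helper72, statement S3635)
-/

set_option autoImplicit false
set_option linter.unusedSectionVars false

namespace Cfsg.Agent.H72.PGF

open Cfsg Cfsg.Agent.H72.F4I Cfsg.Agent.H200.PG Cfsg.Agent.H564.NearTwo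

variable {q : ℕ}

/-- **`A_m`** -/
theorem row_alt {m : ℕ} (h : PS q (alternatingGroup (Fin m))) : False := by
  obtain ⟨r, hr, hr1, -⟩ := h.three
  obtain ⟨s, hs, hs1⟩ := h.exists_prime_two
  have h17 := h.ge_seventeen hr hr1
  have h13 := h.ge_thirteen hs hs1
  have h8 := h.mod_eight hr hr1
  have h12 := h.mod_twelve hs hs1
  have hrm := H376.Coc.alt_dvd_le hr (h.i₁.dvd r hr hr1)
  have hsm := H376.Coc.alt_dvd_le hs (h.i₂.dvd s hs hs1)
  have hmr : m < r + 3 := by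
    by_contra hcon
    refine h.i₁.nadj r 3 hr Nat.prime_three hr1 not_three_dvd ?_
    exact (S2466.result m r 3 hr Nat.prime_three (by omega) (by norm_num) (by omega) hrm (by omega)).2 (by omega)
  have hms : m < s + 3 := by
    by_contra hcon
    refine h.i₂.nadj s 3 hs Nat.prime_three hs1 ?_ ?_
    · intro h3
      have := h.mod_twelve Nat.prime_three h3
      omega
    · exact (S2466.result m s 3 hs Nat.prime_three (by omega) (by norm_num) (by omega) hsm (by omega)).2 (by omega)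
  have : r = s := by omega
  subst this
  exact h.not_both hr hs1 hr1

/-! ### `PSL₂(u)` -/

/-- a power with all prime divisors equal to `l` -/
theorem eq_pow {n l : ℕ} (hn : n ≠ 0) (h : ∀ r : ℕ, r.Prime → r ∣ n → r = l) : ∃ a : ℕ, n = l ^ a :=
  ⟨_, Nat.eq_prime_pow_of_unique_prime_dvd hn fun {r} hr hd => h r hr hd⟩

theorem odd_of_pow {n l a : ℕ} (hsq : ∀ x : ℕ, n ≠ x ^ 2) (h : n = l ^ a) : Odd a := by
  by_contra hcon
  obtain ⟨b, rfl⟩ := Nat.not_odd_iff_even.1 hcon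
  exact hsq (l ^ b) (by rw [h, ← pow_mul, mul_two])

theorem not_sq_one (hq : 2 ≤ q) (x : ℕ) : q ^ 4 + 1 ≠ x ^ 2 := by
  intro h
  have e : q ^ 4 = (q ^ 2) ^ 2 := by ring
  rw [e] at h
  have h4 := four_le_sq hq
  rcases Nat.lt_or_ge (q ^ 2) x with h1 | h1
  · nlinarith
  · nlinarith

theorem not_sq_two (hq : 2 ≤ q) (x : ℕ) : mm q ≠ x ^ 2 := by
  intro h
  have h1 := mm_add_sq (q := q) (by omega)
  have e : q ^ 4 = (q ^ 2) ^ 2 := by ring
  rw [e] at h1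
  have h4 := four_le_sq hq
  rw [h] at h1
  rcases Nat.lt_or_ge x (q ^ 2) with h2 | h2
  · have : (x + 1) ^ 2 ≤ (q ^ 2) ^ 2 := Nat.pow_le_pow_left h2 2
    nlinarith
  · nlinarith

/-- the prime set of `n₁` is `{l}` -/
theorem psl_one (h2 : 2 ≤ q) {l f a : ℕ} (hl : l.Prime) (hl8 : l % 8 = 1) (ha : q ^ 4 + 1 = l ^ a)
    (hw : ∀ s : ℕ, s.Prime → s ∣ mm q → s ∣ l ^ f + 1)
    (hw' : ∀ s : ℕ, s.Prime → s ≠ 2 → s ∣ l ^ f + 1 → s ∣ mm q) : False := by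
  have hao := odd_of_pow (not_sq_one h2) ha
  have hb := mm_ge h2
  -- `f` is odd
  have key : ∀ s : ℕ, s.Prime → s ∣ mm q → s ≠ 2 ∧ s ≠ 3 ∧ ((l : ZMod s)) ^ (3 * a) = -1 := by
    intro s hs hd
    have h12 := prime_mm (by omega) hs hd
    have := Fact.mk hs
    refine ⟨by rintro rfl; omega, by rintro rfl; omega, ?_⟩
    have h1 : (q : ZMod s) ^ 4 - (q : ZMod s) ^ 2 + 1 = 0 := by
      have h3 := (ZMod.natCast_eq_zero_iff (mm q) s).2 hd
      have h4 := mm_add_sq (q := q) (by omega)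
      have h5 : ((mm q + q ^ 2 : ℕ) : ZMod s) = ((q ^ 4 + 1 : ℕ) : ZMod s) := by rw [h4]
      push_cast at h5
      rw [h3] at h5
      linear_combination -h5
    have h2 : (l : ZMod s) ^ a = (q : ZMod s) ^ 2 := by
      have h3 : ((l ^ a : ℕ) : ZMod s) = ((q ^ 4 + 1 : ℕ) : ZMod s) := by rw [ha]
      push_cast at h3
      rw [h3]
      linear_combination h1
    rw [mul_comm, pow_mul, h2]
    linear_combination ((q : ZMod s) ^ 2 + 1) * h1
  have hne : ∀ s : ℕ, s.Prime → s ≠ 2 → (-1 : ZMod s) ≠ 1 := by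
    intro s hs hs2 h1
    have h3 : ((2 : ℕ) : ZMod s) = 0 := by
      push_cast
      linear_combination -h1
    exact hs2 ((Nat.prime_dvd_prime_iff_eq hs Nat.prime_two).1 ((ZMod.natCast_eq_zero_iff 2 s).1 h3))
  obtain ⟨s, hs, hsd⟩ := Nat.exists_prime_and_dvd (show mm q ≠ 1 by omega)
  obtain ⟨hs2, hs3, hk⟩ := key s hs hsd
  have hf : Odd f := by
    by_contra hcon
    have hfe := Nat.not_odd_iff_even.1 hcon
    have h1 : (l : ZMod s) ^ f = -1 := by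
      have h3 := (ZMod.natCast_eq_zero_iff _ s).2 (hw s hs hsd)
      push_cast at h3
      exact eq_neg_of_add_eq_zero_left h3
    have h3 : (l : ZMod s) ^ (3 * a * f) = 1 := by rw [pow_mul, hk, hfe.neg_one_pow]
    have h4 : (l : ZMod s) ^ (3 * a * f) = -1 := by
      rw [mul_comm, pow_mul, h1]
      exact (Odd.mul (by decide : Odd 3) hao).neg_one_pow
    exact hne s hs hs2 (h4.symm.trans h3)
  -- `(l + 1)/2` is odd
  obtain ⟨w, hw2⟩ : ∃ w, l + 1 = 2 * w := ⟨(l + 1) / 2, by omega⟩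
  have hl2 := hl.two_le
  obtain ⟨t, ht, htw⟩ := Nat.exists_prime_and_dvd (show w ≠ 1 by omega)
  have ht2 : t ≠ 2 := by
    rintro rfl
    omega
  have htl : t ∣ l + 1 := hw2 ▸ htw.mul_left 2
  have hdiv : l + 1 ∣ l ^ f + 1 := by
    have := Odd.nat_add_dvd_pow_add_pow l 1 hf
    rwa [one_pow] at this
  have htm := hw' t ht ht2 (htl.trans hdiv)
  obtain ⟨-, ht3, hk'⟩ := key t ht htm
  have h12 := prime_mm (by omega) ht htm
  have := Fact.mk ht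
  have h1 : (l : ZMod t) = -1 := by
    have h3 := (ZMod.natCast_eq_zero_iff _ t).2 htl
    push_cast at h3
    exact eq_neg_of_add_eq_zero_left h3
  -- `q⁴ + 1 = -1`
  have h3 : (q : ZMod t) ^ 4 + 1 = -1 := by
    have h4 : ((q ^ 4 + 1 : ℕ) : ZMod t) = ((l ^ a : ℕ) : ZMod t) := by rw [ha]
    push_cast at h4
    rw [h4, h1, hao.neg_one_pow]
  have h5 : (q : ZMod t) ^ 4 - (q : ZMod t) ^ 2 + 1 = 0 := by
    have h3 := (ZMod.natCast_eq_zero_iff (mm q) t).2 htm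
    have h4 := mm_add_sq (q := q) (by omega)
    have h5 : ((mm q + q ^ 2 : ℕ) : ZMod t) = ((q ^ 4 + 1 : ℕ) : ZMod t) := by rw [h4]
    push_cast at h5
    rw [h3] at h5
    linear_combination -h5
  have h6 : (q : ZMod t) ^ 2 = -1 := by linear_combination h3 - h5
  have h7 : ((3 : ℕ) : ZMod t) = 0 := by
    push_cast
    linear_combination h3 - ((q : ZMod t) ^ 2 - 1) * h6
  exact ht3 ((Nat.prime_dvd_prime_iff_eq ht Nat.prime_three).1 ((ZMod.natCast_eq_zero_iff 3 t).1 h7))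

/-- `mm q = l ^ a`, `q = 2 ^ k` : `a = 1` -/
theorem eq_prime {k : ℕ} (hk : 1 ≤ k) {l a : ℕ} (hl : l.Prime) (hl2 : l ≠ 2) (h : mm (2 ^ k) = l ^ a) :
    mm (2 ^ k) = l := by
  have hq : 2 ≤ 2 ^ k := by
    calc 2 = 2 ^ 1 := rfl
      _ ≤ 2 ^ k := Nat.pow_le_pow_right (by norm_num) hk
  have hao := odd_of_pow (not_sq_two hq) h
  have hlo := hl.odd_of_ne_two hl2
  obtain ⟨W, hW, hW'⟩ := F4I.Iso.exists_geom (q := l) hlo hao
  have h1 := mm_eq (q := 2 ^ k) (by omega)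
  have h2 : (2 ^ k) ^ 2 ∣ (l - 1) * W := by
    rw [hW', ← h, h1, Nat.add_sub_cancel]
    exact Dvd.intro _ rfl
  have h3 : Nat.Coprime ((2 ^ k) ^ 2) W := by
    rw [← pow_mul]
    exact Nat.Coprime.pow_left _ (Nat.coprime_two_left.2 hW)
  have h4 := h3.dvd_of_dvd_mul_right h2
  have h5 := Nat.le_of_dvd (by have := hl.two_le; omega) h4
  have h6 := four_le_sq hq
  rcases Nat.lt_or_ge a 2 with h7 | h7
  · have : a = 1 := by
      obtain ⟨b, hb⟩ := hao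
      omega
    rw [h, this, pow_one]
  · exfalso
    have h8 : l ^ 2 ≤ l ^ a := Nat.pow_le_pow_right hl.pos h7
    rw [← h, h1] at h8
    generalize (2 ^ k) ^ 2 = Q at *
    obtain ⟨R, rfl⟩ : ∃ R, Q = R + 1 := ⟨Q - 1, by omega⟩
    rw [Nat.add_sub_cancel] at h8
    have h9 : (R + 2) ^ 2 ≤ l ^ 2 := Nat.pow_le_pow_left (by omega) 2
    nlinarith

/-- the prime set of `n₂` is `{l}` -/
theorem psl_two {k : ℕ} (hk : 1 ≤ k) {l f a : ℕ} (hl : l.Prime) (hl2 : l ≠ 2) (ha : mm (2 ^ k) = l ^ a)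
    (hw : ∀ s : ℕ, s.Prime → s ∣ (2 ^ k) ^ 4 + 1 → s ∣ l ^ f + 1)
    (hw' : ∀ s : ℕ, s.Prime → s ≠ 2 → s ∣ l ^ f + 1 → s ∣ (2 ^ k) ^ 4 + 1) : False := by
  have hq : 2 ≤ 2 ^ k := by
    calc 2 = 2 ^ 1 := rfl
      _ ≤ 2 ^ k := Nat.pow_le_pow_right (by norm_num) hk
  have hml := eq_prime hk hl hl2 ha
  have h2k : 2 ∣ 2 ^ k := dvd_pow_self 2 (by omega)
  generalize 2 ^ k = q at *
  have key : ∀ s : ℕ, s.Prime → s ∣ q ^ 4 + 1 → s ≠ 2 ∧ s % 8 = 1 ∧ (q : ZMod s) ^ 4 = -1 ∧ (l : ZMod s) = -(q : ZMod s) ^ 2 := by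
    intro s hs hd
    have hs2 : s ≠ 2 := by
      rintro rfl
      have := (Nat.dvd_add_right (dvd_pow h2k (by norm_num : (4 : ℕ) ≠ 0))).1 hd
      omega
    have := Fact.mk hs
    have h1 : (q : ZMod s) ^ 4 = -1 := by
      have h3 := (ZMod.natCast_eq_zero_iff (q ^ 4 + 1) s).2 hd
      push_cast at h3
      exact eq_neg_of_add_eq_zero_left h3
    refine ⟨hs2, prime_eight hs hs2 hd, h1, ?_⟩
    have h4 := mm_add_sq (q := q) (by omega)
    rw [hml] at h4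
    have h5 : ((l + q ^ 2 : ℕ) : ZMod s) = ((q ^ 4 + 1 : ℕ) : ZMod s) := by rw [h4]
    push_cast at h5
    linear_combination h5 + h1
  have hne : ∀ s : ℕ, s.Prime → s ≠ 2 → (-1 : ZMod s) ≠ 1 := by
    intro s hs hs2 h1
    have h3 : ((2 : ℕ) : ZMod s) = 0 := by
      push_cast
      linear_combination -h1
    exact hs2 ((Nat.prime_dvd_prime_iff_eq hs Nat.prime_two).1 ((ZMod.natCast_eq_zero_iff 2 s).1 h3))
  obtain ⟨s, hs, hs2, hsd⟩ := exists_eight (q := q) (by omega)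
  obtain ⟨-, -, hq4, hlq⟩ := key s hs hsd
  have hl2' : (l : ZMod s) ^ 2 = -1 := by
    rw [hlq]
    linear_combination hq4
  have hlf : (l : ZMod s) ^ f = -1 := by
    have h3 := (ZMod.natCast_eq_zero_iff _ s).2 (hw s hs hsd)
    push_cast at h3
    exact eq_neg_of_add_eq_zero_left h3
  -- `f = 2 g`, `g` odd
  have hfe : Even f := by
    by_contra hcon
    have hfo := Nat.not_even_iff_odd.1 hcon
    have h3 : (l : ZMod s) ^ (2 * f) = -1 := by rw [pow_mul, hl2', hfo.neg_one_pow]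
    have h4 : (l : ZMod s) ^ (2 * f) = 1 := by
      rw [mul_comm, pow_mul, hlf]
      ring
    exact hne s hs hs2 (h3.symm.trans h4)
  obtain ⟨g, hg⟩ := hfe
  have hgo : Odd g := by
    by_contra hcon
    have hge := Nat.not_odd_iff_even.1 hcon
    have h3 : (l : ZMod s) ^ f = 1 := by rw [hg, ← two_mul, pow_mul, hl2', hge.neg_one_pow]
    exact hne s hs hs2 (hlf.symm.trans h3)
  have hdiv : l ^ 2 + 1 ∣ l ^ f + 1 := by
    have := Odd.nat_add_dvd_pow_add_pow (l ^ 2) 1 hgo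
    rwa [one_pow, ← pow_mul, two_mul, ← hg] at this
  -- `l² + 1 = (q⁴ + 1) (q⁴ - 2 q² + 2)`
  obtain ⟨c, rfl⟩ := h2k
  obtain ⟨z, hz⟩ : ∃ z, z + 4 * c ^ 2 = 8 * c ^ 4 + 1 := by
    refine ⟨8 * c ^ 4 + 1 - 4 * c ^ 2, ?_⟩
    have : c ^ 2 ≤ c ^ 4 := Nat.pow_le_pow_right (by omega) (by norm_num)
    omega
  have hzz : (z : ℤ) = 8 * (c : ℤ) ^ 4 + 1 - 4 * (c : ℤ) ^ 2 := by
    have : ((z + 4 * c ^ 2 : ℕ) : ℤ) = ((8 * c ^ 4 + 1 : ℕ) : ℤ) := by rw [hz]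
    push_cast at this
    linarith
  have hlz : (l : ℤ) = 16 * (c : ℤ) ^ 4 - 4 * (c : ℤ) ^ 2 + 1 := by
    rw [← hml, mm_cast (by omega)]
    push_cast
    ring
  have hfac : l ^ 2 + 1 = ((2 * c) ^ 4 + 1) * (2 * z) := by
    zify
    rw [hlz, hzz]
    ring
  have hc1 : 1 ≤ c := by omega
  have hz5 : 5 ≤ z := by
    have h1 : c ^ 4 = c ^ 2 * c ^ 2 := by ring
    have h3 : 1 ≤ c ^ 2 := Nat.one_le_pow _ _ hc1
    nlinarith
  obtain ⟨t, ht, htz⟩ := Nat.exists_prime_and_dvd (show z ≠ 1 by omega)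
  have ht2 : t ≠ 2 := by
    rintro rfl
    omega
  have htd : t ∣ l ^ f + 1 := (hfac ▸ ((htz.mul_left 2).mul_left _) : t ∣ l ^ 2 + 1).trans hdiv
  obtain ⟨-, ht8, htq, -⟩ := key t ht (hw' t ht ht2 htd)
  have h5 : ((5 : ℕ) : ZMod t) = 0 := by
    have h6 := (ZMod.natCast_eq_zero_iff z t).2 htz
    have h7 : ((z + 4 * c ^ 2 : ℕ) : ZMod t) = ((8 * c ^ 4 + 1 : ℕ) : ZMod t) := by rw [hz]
    push_cast at h7 htq ⊢
    rw [h6] at h7
    -- `16 c⁴ = -1`, `4 c² = 8 c⁴ + 1`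
    have h8 : (8 : ZMod t) * (c : ZMod t) ^ 2 = 1 := by linear_combination 2 * h7 + htq
    linear_combination 4 * htq - (8 * (c : ZMod t) ^ 2 + 1) * h8
  have h6 := (Nat.prime_dvd_prime_iff_eq ht Nat.prime_five).1 ((ZMod.natCast_eq_zero_iff 5 t).1 h5)
  omega

/-- **`PSL₂(u)`, `u` odd** -/
theorem row_psl2 {F : Type*} [Field F] [Fintype F] (ho : Odd (Fintype.card F)) (h4 : 4 ≤ Fintype.card F)
    (h : PS q (Matrix.ProjectiveSpecialLinearGroup (Fin 2) F)) : False := by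
  obtain ⟨l, hl⟩ := CharP.exists F
  have hlp : Fact l.Prime := ⟨CharP.char_is_prime F l⟩
  obtain ⟨f, hlp', hf⟩ := FiniteField.card F l
  have hspec := S2475.result (F := F) l h4
  obtain ⟨u, hu⟩ : ∃ u, Fintype.card F = u := ⟨_, rfl⟩
  rw [hu] at hspec h4 hf ho
  rw [Nat.odd_iff] at ho
  have hgcd : Nat.gcd 2 (u - 1) = 2 := Nat.gcd_eq_left (by omega)
  rw [hgcd] at hspec
  have hin : ∀ m : ℕ, (m ∣ l ∨ m ∣ (u - 1) / 2 ∨ m ∣ (u + 1) / 2) ↔
      ∃ x : Matrix.ProjectiveSpecialLinearGroup (Fin 2) F, orderOf x = m := fun m => by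
    have := Set.ext_iff.1 hspec m
    exact this.symm
  have hfin : Finite (Matrix.ProjectiveSpecialLinearGroup (Fin 2) F) := inferInstance
  have h2 := h.two_le
  have hl2 : l ≠ 2 := by
    rintro rfl
    rw [hf, Nat.pow_mod] at ho
    simp at ho
  have e1 := (hin _).1 (Or.inr (Or.inl (dvd_refl ((u - 1) / 2))))
  have e2 := (hin _).1 (Or.inr (Or.inr (dvd_refl ((u + 1) / 2))))
  -- primes of `n₁`, `n₂`
  have c1 : ∀ r : ℕ, r.Prime → r ∣ q ^ 4 + 1 → r = l ∨ r ∣ (u - 1) / 2 ∨ r ∣ (u + 1) / 2 := fun r hr hd => by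
    have := Fact.mk hr
    rcases (hin r).2 (exists_prime_orderOf_dvd_card' r (h.i₁.dvd r hr hd)) with h1 | h1
    · exact Or.inl ((Nat.prime_dvd_prime_iff_eq hr hlp').1 h1)
    · exact Or.inr h1
  have c2 : ∀ r : ℕ, r.Prime → r ∣ mm q → r = l ∨ r ∣ (u - 1) / 2 ∨ r ∣ (u + 1) / 2 := fun r hr hd => by
    have := Fact.mk hr
    rcases (hin r).2 (exists_prime_orderOf_dvd_card' r (h.i₂.dvd r hr hd)) with h1 | h1
    · exact Or.inl ((Nat.prime_dvd_prime_iff_eq hr hlp').1 h1)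
    · exact Or.inr h1
  have nb : ∀ {r : ℕ}, r.Prime → r ∣ q ^ 4 + 1 → r ∣ mm q → False := fun hr h1 h2 => h.not_both hr h2 h1
  obtain ⟨r₁, hr₁, hd₁, -⟩ := h.three
  obtain ⟨r₂, hr₂, hd₂⟩ := h.exists_prime_two
  -- the characteristic belongs to `n₁` or `n₂`, so `u ≡ 1` modulo 4
  have hpair : ∀ w : ℕ, (∃ x : Matrix.ProjectiveSpecialLinearGroup (Fin 2) F, orderOf x = w) → r₁ ∣ w → r₂ ∣ w → False :=
    fun w hw h1 h3 => nb hr₂ (Isol.prime_of_elt h.i₁ hw hr₁ hd₁ h1 hr₂ h3) hd₂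
  have heven : ∀ w r : ℕ, (∃ x : Matrix.ProjectiveSpecialLinearGroup (Fin 2) F, orderOf x = w) → 2 ∣ w → r.Prime →
      (r ∣ q ^ 4 + 1 ∨ r ∣ mm q) → ¬ r ∣ w := by
    rintro w r hw h2w hr (h1 | h1) h3
    · exact h.i₁.ne_two (Isol.prime_of_elt h.i₁ hw hr h1 h3 Nat.prime_two h2w) rfl
    · exact h.i₂.ne_two (Isol.prime_of_elt h.i₂ hw hr h1 h3 Nat.prime_two h2w) rfl
  have hchar : l ∣ q ^ 4 + 1 ∨ l ∣ mm q := by
    rcases c1 r₁ hr₁ hd₁ with h1 | h1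
    · exact Or.inl (h1 ▸ hd₁)
    rcases c2 r₂ hr₂ hd₂ with h3 | h3
    · exact Or.inr (h3 ▸ hd₂)
    exfalso
    rcases Nat.even_or_odd ((u - 1) / 2) with h5 | h5
    · have h6 := h1.resolve_left (heven _ _ e1 h5.two_dvd hr₁ (Or.inl hd₁))
      have h7 := h3.resolve_left (heven _ _ e1 h5.two_dvd hr₂ (Or.inr hd₂))
      exact hpair _ e2 h6 h7
    · have h8 : 2 ∣ (u + 1) / 2 := by
        rw [Nat.odd_iff] at h5
        omega
      have h6 := h1.resolve_right (heven _ _ e2 h8 hr₁ (Or.inl hd₁))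
      have h7 := h3.resolve_right (heven _ _ e2 h8 hr₂ (Or.inr hd₂))
      exact hpair _ e1 h6 h7
  have hl4 : l % 4 = 1 := by
    rcases hchar with h1 | h1
    · have := h.mod_eight hlp' h1
      omega
    · have := h.mod_twelve hlp' h1
      omega
  have hu4 : u % 4 = 1 := by
    rw [hf, Nat.pow_mod, hl4, one_pow]
    norm_num
  have h21 : 2 ∣ (u - 1) / 2 := by omega
  have hodd2 : ∀ s : ℕ, s.Prime → s ≠ 2 → (s ∣ l ^ (f : ℕ) + 1 ↔ s ∣ (u + 1) / 2) := by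
    intro s hs hs2
    rw [← hf, show u + 1 = 2 * ((u + 1) / 2) by omega, hs.dvd_mul, show 2 * ((u + 1) / 2) / 2 = (u + 1) / 2 by omega]
    refine or_iff_right fun h1 => hs2 ((Nat.prime_dvd_prime_iff_eq hs Nat.prime_two).1 h1)
  have ne2 : ∀ {s : ℕ}, s ∣ q ^ 4 + 1 ∨ s ∣ mm q → s ≠ 2 := by
    rintro s (h1 | h1)
    · exact h.i₁.ne_two h1
    · exact h.i₂.ne_two h1
  rcases hchar with h1 | h1
  · -- `n₁ = l ^ a`
    have h3 : ∀ s : ℕ, s.Prime → s ∣ mm q → s ∣ (u + 1) / 2 := fun s hs hd => by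
      rcases c2 s hs hd with h5 | h5 | h5
      · exact absurd hd fun h6 => nb hs (h5 ▸ h1) h6
      · exact absurd h5 (heven _ _ e1 h21 hs (Or.inr hd))
      · exact h5
    obtain ⟨a, ha⟩ := eq_pow (n := q ^ 4 + 1) (l := l) (by omega) fun r hr hd => by
      rcases c1 r hr hd with h5 | h5 | h5
      · exact h5
      · exact absurd h5 (heven _ _ e1 h21 hr (Or.inl hd))
      · exact (nb hr₂ (Isol.prime_of_elt h.i₁ e2 hr hd h5 hr₂ (h3 r₂ hr₂ hd₂)) hd₂).elim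
    refine psl_one h2 hlp' (h.mod_eight hlp' h1) ha (f := f) (fun s hs hd => ?_) fun s hs hs2 hd => ?_
    · exact (hodd2 s hs (ne2 (Or.inr hd))).2 (h3 s hs hd)
    · exact Isol.prime_of_elt h.i₂ e2 hr₂ hd₂ (h3 r₂ hr₂ hd₂) hs ((hodd2 s hs hs2).1 hd)
  · -- `n₂ = l ^ a`
    have h3 : ∀ s : ℕ, s.Prime → s ∣ q ^ 4 + 1 → s ∣ (u + 1) / 2 := fun s hs hd => by
      rcases c1 s hs hd with h5 | h5 | h5
      · exact absurd hd fun h6 => nb hs h6 (h5 ▸ h1)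
      · exact absurd h5 (heven _ _ e1 h21 hs (Or.inl hd))
      · exact h5
    have hb := mm_ge h2
    obtain ⟨a, ha⟩ := eq_pow (n := mm q) (l := l) (by omega) fun r hr hd => by
      rcases c2 r hr hd with h5 | h5 | h5
      · exact h5
      · exact absurd h5 (heven _ _ e1 h21 hr (Or.inr hd))
      · exact (nb hr₁ hd₁ (Isol.prime_of_elt h.i₂ e2 hr hd h5 hr₁ (h3 r₁ hr₁ hd₁))).elim
    obtain ⟨k, hk, rfl⟩ := h.two
    refine psl_two hk hlp' hl2 ha (f := f) (fun s hs hd => ?_) fun s hs hs2 hd => ?_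
    · exact (hodd2 s hs (ne2 (Or.inl hd))).2 (h3 s hs hd)
    · exact Isol.prime_of_elt h.i₁ e2 hr₁ hd₁ (h3 r₁ hr₁ hd₁) hs ((hodd2 s hs hs2).1 hd)

/-- **`PSU₄(3)`** -/
theorem row_psu43 {F : Type*} [Field F] [Fintype F] (hF : Fintype.card F = 3 ^ 2) (h : PS q (PSU 4 F 3)) : False := by
  obtain ⟨r, hr, hr1, -⟩ := h.three
  have h17 := h.ge_seventeen hr hr1
  rcases H948.UMain.psu_four_three hF hr (h.i₁.dvd r hr hr1) with h1 | h1 | h1
  · exact Isol.not_near h.i₁ hr1 h1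
  · omega
  · omega

end Cfsg.Agent.H72.PGF
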